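import Mathlib.CategoryTheory.Sites.Over
import Mathlib.CategoryTheory.Sites.Pullback
import Mathlib.CategoryTheory.Sites.CoverLifting
import Mathlib.CategoryTheory.Adjunction.Triple

universe w v₁ u₁ v u

namespace Groth.Agent.Lib.CohSite

open CategoryTheory Limits Opposite

variable {C : Type u} [Category.{v} C]

lemma full_overForget (U : C) (hU : ∀ V : C, Subsingleton (V ⟶ U)) : (Over.forget U).Full where
  map_surjective {X Y} f := by
    haveI := hU X.left
    exact ⟨Over.homMk f (Subsingleton.elim _ _), rfl⟩

section
variable {D : Type u₁} [Category.{v₁} D] (G : C ⥤ D) (A : Type*) [Category A]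
  (J : GrothendieckTopology C) (K : GrothendieckTopology D)
  [G.IsContinuous J K] [G.IsCocontinuous J K]
  [G.Full] [G.Faithful]
  [∀ P : Cᵒᵖ ⥤ A, G.op.HasPointwiseRightKanExtension P]
  [(G.sheafPushforwardContinuous A J K).IsRightAdjoint]

/-- For a fully faithful continuous and cocontinuous functor, the unit of the pullback–pushforward
adjunction of sheaves is invertible. -/
lemma isIso_sheafAdjunctionContinuous_unit :
    IsIso (G.sheafAdjunctionContinuous A J K).unit := by
  let t : Adjunction.Triple (G.sheafPullback A J K) (G.sheafPushforwardContinuous A J K)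
      (G.sheafPushforwardCocontinuous A J K) :=
    ⟨G.sheafAdjunctionContinuous A J K, G.sheafAdjunctionCocontinuous A J K⟩
  change IsIso t.adj₁.unit
  rw [t.isIso_unit_iff_isIso_counit]
  haveI : ∀ F : Sheaf J A, IsIso (t.adj₂.counit.app F) := by
    intro F
    haveI : IsIso ((sheafToPresheaf J A).map (t.adj₂.counit.app F)) := by
      change IsIso (((G.sheafAdjunctionCocontinuous A J K).counit.app F).hom)
      rw [G.sheafAdjunctionCocontinuous_counit_app_hom A J K F]
      haveI : ∀ X, IsIso ((G.op.ranCounit.app F.obj).app X) := fun X =>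
        (Functor.isPointwiseRightKanExtensionRanCounit G.op F.obj (G.op.obj X)).isIso_hom_app
      rw [Functor.ranAdjunction_counit]
      exact (NatTrans.isIso_iff_isIso_app _).2 this
    exact isIso_of_fully_faithful (sheafToPresheaf J A) _
  exact NatIso.isIso_of_isIso_app _

end

end Groth.Agent.Lib.CohSite
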